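import Groth.Agent.S4953
import Groth.Agent.S0412
import Groth.Agent.S1549
import Groth.Agent.L07.SectionCompConn
import Groth.Agent.L07.SectionCompFlat
import Groth.Agent.L19.SmoothLocus
import Groth.Agent.L04.SupportSh.Components
import Groth.Agent.L23.SourceReduced
import Groth.Agent.L23.CohProp.ModelScheme
import Groth.Agent.L06.QfhUnibranch
import Groth.Agent.L05.Point.Crit
import Groth.Prelude.Def_SGA1

/-!
# Local factorisation of flat morphisms with geometrically reduced fibres through connected fibres
-/

universe u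

open CategoryTheory CategoryTheory.Limits AlgebraicGeometry TopologicalSpace

set_option autoImplicit false
set_option backward.isDefEq.respectTransparency.types false
set_option backward.isDefEq.respectTransparency false
set_option linter.style.haveILetI false
set_option linter.unusedSectionVars false
set_option maxSynthPendingDepth 3

namespace Groth.L23.GeomRedProd

/-- Composing with an etale morphism keeps the fibres geometrically reduced. -/
theorem geometricallyReduced_etale_comp {U X S : Scheme.{u}} (h : U ⟶ X) [Etale h] (f : X ⟶ S)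
    [GeometricallyReduced f] : GeometricallyReduced (h ≫ f) := by
  refine ⟨fun K _ t Z fst snd hZ => ?_⟩
  let T := pullback f t
  haveI : IsReduced T :=
    GeometricallyReduced.geometrically_isReduced (f := f) _ _ _ (IsPullback.of_hasPullback f t)
  let r : Z ⟶ T := pullback.lift (fst ≫ h) snd ((Category.assoc _ _ _).trans hZ.w)
  have sq : IsPullback fst r h (pullback.fst f t) := by
    refine IsPullback.of_bot ?_ (pullback.lift_fst _ _ _).symm (IsPullback.of_hasPullback f t)
    rw [pullback.lift_snd]
    exact hZ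
  haveI : Etale r := MorphismProperty.of_isPullback (P := @Etale) sq ‹_›
  exact Groth.L23.isReduced_of_etale r

/-- A fibre with geometrically reduced structure map is geometrically reduced at every point. -/
theorem isGeomReducedAt_fibre {X Y : Scheme.{u}} (f : X ⟶ Y) [GeometricallyReduced f] (y : Y)
    (a : f.fiber y) : FBase.IsGeomReducedAt (f.fiberToSpecResidueField y) a := by
  intro K _ hK x' _
  haveI : AlgebraicGeometry.IsReduced (@FBase.bc _ _ _ (f.fiberToSpecResidueField y) K _ hK) :=
    (inferInstance : GeometricallyReduced (f.fiberToSpecResidueField y)).geometrically_isReduced _ _ _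
      (IsPullback.of_hasPullback _ _)
  infer_instance

/-- The affine case. -/
theorem exists_factor_qcqs {X S : Scheme.{u}} (f : X ⟶ S) [Flat f] [LocallyOfFinitePresentation f]
    [GeometricallyReduced f] [QuasiCompact f] [QuasiSeparated f] (x : X) :
    ∃ (X₁ V : Scheme.{u}) (e : X₁ ⟶ X) (q : V ⟶ S) (a : X₁ ⟶ V) (x₁ : X₁),
      Etale e ∧ Etale q ∧ e x₁ = x ∧ a ≫ q = e ≫ f ∧ SGA1.UnivSubmersive a ∧
        ∀ (Ω : Type u) [Field Ω] [IsAlgClosed Ω] (η : Spec (CommRingCat.of Ω) ⟶ V),
          ConnectedSpace ↥(pullback a η) := by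
  -- a smooth point in the connected component of `x` in its fibre
  let s : S := f x
  let π : f.fiber s ⟶ Spec (CommRingCat.of (S.residueField s)) := f.fiberToSpecResidueField s
  haveI : LocallyOfFiniteType π := inferInstanceAs (LocallyOfFiniteType (pullback.snd f _))
  haveI : QuasiCompact π := inferInstanceAs (QuasiCompact (pullback.snd f _))
  haveI : GeometricallyReduced π := inferInstanceAs (GeometricallyReduced (f.fiberToSpecResidueField s))
  haveI : IsLocallyNoetherian (f.fiber s) := LocallyOfFiniteType.isLocallyNoetherian π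
  haveI : CompactSpace ↥(f.fiber s) := QuasiCompact.compactSpace_of_compactSpace π
  haveI : IsNoetherian (f.fiber s) := { }
  letI : (f.fiber s).Over (Spec (CommRingCat.of (S.residueField s))) := ⟨π⟩
  haveI : LocallyOfFiniteType ((f.fiber s) ↘ Spec (CommRingCat.of (S.residueField s))) := ‹LocallyOfFiniteType π›
  obtain ⟨U, hUd, hUs⟩ := (Groth.Agent.S1549.result (S.residueField s) (f.fiber s)).1 ‹GeometricallyReduced π›
  let c : f.fiber s := f.asFiber x
  obtain ⟨o, hoo, hon, hoZ⟩ := NoetherianSpace.exists_isOpen_nonempty_subset_irreducibleComponent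
    (irreducibleComponent c) (irreducibleComponent_mem_irreducibleComponents c)
  have hoC : o ⊆ connectedComponent c := fun z hz =>
    isIrreducible_irreducibleComponent.isConnected.isPreconnected.subset_connectedComponent
      mem_irreducibleComponent (hoZ hz)
  obtain ⟨b, hbo, hbU⟩ := hUd.inter_open_nonempty o hoo hon
  have hb : f.fiberι s b ∈ f.smoothLocus :=
    (Groth.L19.SmoothLocus.mem_iff_nhd f _).mpr
      (Groth.L19.SmoothLocus.nhd_of_fiber f s (Flat.stalkMap f _) ⟨U, hbU, hUs⟩)
  obtain ⟨W₂, hW₂, hW₂o⟩ := (f.fiberι s).isEmbedding.isInducing.isOpen_iff.1 hoo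
  let W : X.Opens := f.smoothLocus ⊓ ⟨W₂, hW₂⟩
  have hbW : f.fiberι s b ∈ W := ⟨hb, show b ∈ (f.fiberι s) ⁻¹' W₂ from hW₂o.symm ▸ hbo⟩
  haveI : Smooth (W.ι ≫ f) := by
    rw [← Scheme.Hom.smoothLocus_eq_top_iff, ← Scheme.Hom.preimage_smoothLocus_eq, eq_top_iff]
    intro w _
    exact w.2.1
  have hfb : f (f.fiberι s b) = s := (f.range_fiberι s).le ⟨b, rfl⟩
  obtain ⟨S', t, s', ht, hts, h, hh⟩ := Groth.Agent.S0412.result (W.ι ≫ f) s
    ⟨⟨f.fiberι s b, hbW⟩, hfb⟩
  haveI := ht
  let X' := pullback f t
  let p : X' ⟶ X := pullback.fst f t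
  let f' : X' ⟶ S' := pullback.snd f t
  let g : S' ⟶ X' := pullback.lift (h ≫ W.ι) (𝟙 S') (by
    rw [Category.assoc, hh, Category.id_comp])
  have hg : g ≫ f' = 𝟙 S' := pullback.lift_snd _ _ _
  have sq : IsPullback p f' f t := IsPullback.of_hasPullback f t
  haveI : GeometricallyReduced f' := inferInstanceAs (GeometricallyReduced (pullback.snd f t))
  haveI : Flat f' := inferInstanceAs (Flat (pullback.snd f t))
  haveI : LocallyOfFinitePresentation f' := inferInstanceAs (LocallyOfFinitePresentation (pullback.snd f t))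
  haveI : QuasiCompact f' := inferInstanceAs (QuasiCompact (pullback.snd f t))
  haveI : QuasiSeparated f' := inferInstanceAs (QuasiSeparated (pullback.snd f t))
  -- the union of the section components is open
  have hopen : IsOpen (MoreMor.sectionComponents f' g) := by
    refine isOpen_iff_mem_nhds.2 fun z hz => mem_interior_iff_mem_nhds.1 ?_
    exact Groth.Agent.S4953.result f' g hg (f' z) (fun a _ => isGeomReducedAt_fibre f' (f' z) a) hz
  let O : X'.Opens := ⟨MoreMor.sectionComponents f' g, hopen⟩
  have hgO : ∀ w : S', g w ∈ O := fun w => by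
    have : f' (g w) = w := Groth.L07.SectionComp.apply_section f' g hg w
    exact (Groth.L07.SectionComp.mem_sectionComponents_iff f' g this).2
      (Groth.L07.SectionComp.mem_comp f' g hg w)
  -- a point of the section component over `x`
  obtain ⟨x', hx'p, hx'O⟩ : ∃ x' : X', p x' = x ∧ x' ∈ O := by
    let k' := S'.residueField s'
    have H := isPullback_fiberToSpecResidueField_of_isPullback sq s'
    let m : f'.fiber s' ⟶ f.fiber (t s') :=
      pullback.map _ _ _ _ p (Spec.map (t.residueFieldMap s')) t sq.w.symm (by simp)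
    have h0 : m ≫ f.fiberι (t s') = f'.fiberι s' ≫ p := pullback.lift_fst _ _ _
    haveI : IsFinite (Spec.map (t.residueFieldMap s')) :=
      (IsFinite.SpecMap_iff _).2 (Groth.L23.CohProp.Model.finite_residueFieldMap t s')
    haveI : IsFinite m := MorphismProperty.of_isPullback (P := @IsFinite) H.flip inferInstance
    haveI : UniversallyOpen m := MorphismProperty.of_isPullback (P := @UniversallyOpen) H.flip inferInstance
    let π' : f'.fiber s' ⟶ Spec (CommRingCat.of (S'.residueField s')) := f'.fiberToSpecResidueField s'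
    haveI : LocallyOfFiniteType π' := inferInstanceAs (LocallyOfFiniteType (pullback.snd f' _))
    haveI : IsLocallyNoetherian (f'.fiber s') := LocallyOfFiniteType.isLocallyNoetherian π'
    let c' : f'.fiber s' := (f'.fiberHomeo s').symm ⟨g s', Groth.L07.SectionComp.apply_section f' g hg s'⟩
    have hc' : f'.fiberι s' c' = g s' := by
      exact f'.fiberι_fiberHomeo_symm s' _
    let C' : Set (f'.fiber s') := connectedComponent c'
    have hclosed : IsClosed (m '' C') := m.isClosedMap _ isClosed_connectedComponent
    have hopen' : IsOpen (m '' C') := m.isOpenMap _ (Groth.L04.SupportSh.isOpen_connectedComponent c')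
    -- the component of `f.fiber (t s')` met by the image contains the point over `x`
    obtain ⟨cx, hcx⟩ : x ∈ Set.range (f.fiberι (t s')) := by
      rw [f.range_fiberι]; exact hts.symm
    have hsub : connectedComponent cx ⊆ m '' C' := by
      refine isPreconnected_connectedComponent.subset_isClopen ⟨hclosed, hopen'⟩ ⟨m c', ?_, c', mem_connectedComponent, rfl⟩
      have e1 : f.fiberι (t s') (m c') = W.ι (h s') := by
        rw [← Scheme.Hom.comp_apply, h0, Scheme.Hom.comp_apply, hc', ← Scheme.Hom.comp_apply,
          pullback.lift_fst, Scheme.Hom.comp_apply]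
      have hgood : ∀ (r : S) (hr : r = s) (z : f.fiber r) (_ : f.fiberι r z ∈ W) (cz : f.fiber r)
          (_ : f.fiberι r cz = x), z ∈ connectedComponent cz := by
        rintro r rfl z hz cz hcz
        have hcc : cz = c := (f.fiberι s).isEmbedding.injective (hcz.trans (f.fiberι_asFiber x).symm)
        rw [hcc]
        exact hoC (hW₂o ▸ hz.2)
      exact hgood (t s') hts _ (e1 ▸ (h s').2) cx hcx
    obtain ⟨d, hdC, hdm⟩ := hsub mem_connectedComponent
    refine ⟨f'.fiberι s' d, ?_, ?_⟩
    · rw [← Scheme.Hom.comp_apply, ← h0, Scheme.Hom.comp_apply, hdm, hcx]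
    · have hd : f' (f'.fiberι s' d) = s' := (f'.range_fiberι s').le ⟨d, rfl⟩
      refine (Groth.L07.SectionComp.mem_sectionComponents_iff f' g hd).2 ?_
      rw [Groth.L07.SectionComp.comp_eq_image f' g s' c' hc']
      exact ⟨d, hdC, rfl⟩
  haveI : Etale p := inferInstanceAs (Etale (pullback.fst f t))
  refine ⟨O, S', O.ι ≫ p, t, O.ι ≫ f', ⟨x', hx'O⟩, inferInstance, ht, ?_, ?_, ?_, fun Ω _ _ η => ?_⟩
  · rw [Scheme.Hom.comp_apply]; exact hx'p
  · rw [Category.assoc, Category.assoc, sq.w]
  · haveI : Surjective (O.ι ≫ f') := ⟨fun w => ⟨⟨g w, hgO w⟩, by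
      rw [Scheme.Hom.comp_apply]; exact Groth.L07.SectionComp.apply_section f' g hg w⟩⟩
    exact Groth.L06.QfhUnibranch.univSubmersive_of_open_surjective (O.ι ≫ f')
  · let q := pullback.fst f' η
    let fη := pullback.snd f' η
    let gη : Spec (CommRingCat.of Ω) ⟶ pullback f' η := pullback.lift (η ≫ g) (𝟙 _) (by
      rw [Category.assoc, hg, Category.comp_id, Category.id_comp])
    have hgη : gη ≫ fη = 𝟙 _ := pullback.lift_snd _ _ _
    have hgq : gη ≫ q = η ≫ g := pullback.lift_fst _ _ _
    let w₀ : Spec (CommRingCat.of Ω) := IsLocalRing.closedPoint Ω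
    have hbc := Groth.L07.SectionComp.sectionComponents_baseChange f' g
      (IsPullback.of_hasPullback f' η) gη hg hgη hgq
    have hsing : ∀ w : Spec (CommRingCat.of Ω), w = w₀ := fun w => Subsingleton.elim _ _
    have hconn : _root_.IsConnected (MoreMor.sectionComponents fη gη) := by
      have e : MoreMor.sectionComponents fη gη = connectedComponentIn (fη.base ⁻¹' {w₀}) (gη.base w₀) := by
        ext z
        exact Groth.L07.SectionComp.mem_sectionComponents_iff fη gη (hsing _)
      rw [e]
      exact ⟨⟨_, Groth.L07.SectionComp.mem_comp fη gη hgη w₀⟩, isPreconnected_connectedComponentIn⟩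
    have sqO : IsPullback (pullback.lift (pullback.fst (O.ι ≫ f') η ≫ O.ι) (pullback.snd (O.ι ≫ f') η)
        ((Category.assoc _ _ _).trans pullback.condition)) (pullback.fst (O.ι ≫ f') η) q O.ι := by
      refine (IsPullback.of_bot ?_ (pullback.lift_fst _ _ _).symm (IsPullback.of_hasPullback f' η)).flip
      rw [pullback.lift_snd]
      exact IsPullback.of_hasPullback _ _
    let j := pullback.lift (pullback.fst (O.ι ≫ f') η ≫ O.ι) (pullback.snd (O.ι ≫ f') η)
        ((Category.assoc _ _ _).trans pullback.condition)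
    have hrange : Set.range j = MoreMor.sectionComponents fη gη := by
      rw [hbc]
      have hr : Set.range j = q ⁻¹' Set.range O.ι := by
        rw [← Scheme.Pullback.range_fst (f := q) (g := O.ι)]
        show Set.range j = _
        have ej : j = sqO.isoPullback.hom ≫ pullback.fst q O.ι := sqO.isoPullback_hom_fst.symm
        rw [ej, Scheme.Hom.comp_base, TopCat.coe_comp, Set.range_comp,
          Set.range_eq_univ.2 (show Function.Surjective sqO.isoPullback.hom.base from
            sqO.isoPullback.hom.homeomorph.surjective), Set.image_univ]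
      rw [hr, Scheme.Opens.range_ι]
      rfl
    haveI : IsOpenImmersion j := MorphismProperty.of_isPullback (P := @IsOpenImmersion) sqO.flip inferInstance
    have : ConnectedSpace ↥(Set.range j) := isConnected_iff_connectedSpace.1 (hrange ▸ hconn)
    exact (j.isOpenEmbedding.isEmbedding.toHomeomorph.symm.surjective).connectedSpace
      j.isOpenEmbedding.isEmbedding.toHomeomorph.symm.continuous

/-- Every point of a flat morphism with geometrically reduced fibres has an etale neighbourhood
factoring through connected geometric fibres. -/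
theorem exists_factor {X S : Scheme.{u}} (f : X ⟶ S) [Flat f] [LocallyOfFinitePresentation f]
    [GeometricallyReduced f] (x : X) :
    ∃ (X₁ V : Scheme.{u}) (e : X₁ ⟶ X) (q : V ⟶ S) (a : X₁ ⟶ V) (x₁ : X₁),
      Etale e ∧ Etale q ∧ e x₁ = x ∧ a ≫ q = e ≫ f ∧ SGA1.UnivSubmersive a ∧
        ∀ (Ω : Type u) [Field Ω] [IsAlgClosed Ω] (η : Spec (CommRingCat.of Ω) ⟶ V),
          ConnectedSpace ↥(pullback a η) := by
  obtain ⟨Sa, hSa, hxS, -⟩ := exists_isAffineOpen_mem_and_subset (X := S) (x := f x) (U := ⊤) trivial
  obtain ⟨Xa, hXa, hxX, hXS⟩ := exists_isAffineOpen_mem_and_subset (X := X) (x := x) (U := f ⁻¹ᵁ Sa) hxS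
  haveI : IsAffine (Xa : Scheme.{u}) := hXa
  haveI : IsAffine (Sa : Scheme.{u}) := hSa
  let f₀ := f.resLE Sa Xa hXS
  have hf₀ : f₀ ≫ Sa.ι = Xa.ι ≫ f := f.resLE_comp_ι hXS
  haveI : GeometricallyReduced f₀ := by
    haveI := geometricallyReduced_etale_comp Xa.ι f
    exact MorphismProperty.of_isPullback (P := @GeometricallyReduced)
      (Groth.L05.Point.isPullback_of_mono f₀ Sa.ι) (hf₀.symm ▸ inferInstance)
  haveI : Flat f₀ := inferInstance
  haveI : LocallyOfFinitePresentation f₀ := inferInstance
  obtain ⟨X₁, V, e, q, a, x₁, he, hq, hx, hsq, hsub, hconn⟩ := exists_factor_qcqs f₀ ⟨x, hxX⟩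
  haveI := he
  haveI := hq
  refine ⟨X₁, V, e ≫ Xa.ι, q ≫ Sa.ι, a, x₁, inferInstance, inferInstance, ?_, ?_, hsub, hconn⟩
  · rw [Scheme.Hom.comp_apply, hx]; rfl
  · rw [← Category.assoc, hsq, Category.assoc, hf₀, Category.assoc]

end Groth.L23.GeomRedProd
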