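import Groth.Agent.L23.GeomRedProd.Fact
import Groth.Agent.L27.EtSite.ConnBaseChange
import Groth.Agent.L27.EtSite.BaseChangeIso
import Mathlib.CategoryTheory.Limits.Preserves.Shapes.Products

/-!
# Inverse images of products along flat morphisms with geometrically reduced fibres
-/

universe u

open CategoryTheory CategoryTheory.Limits AlgebraicGeometry Opposite
open Groth.L27.EtSite

set_option autoImplicit false
set_option backward.isDefEq.respectTransparency.types false
set_option linter.style.haveILetI false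
set_option linter.unusedSectionVars false

namespace Groth.L23.GeomRedProd

variable {X S : Scheme.{u}}

theorem connectedSpace_of_iso {A B : Scheme.{u}} (e : A ≅ B) (h : ConnectedSpace ↥A) : ConnectedSpace ↥B :=
  haveI := h
  e.hom.homeomorph.surjective.connectedSpace e.hom.continuous

/-- Sections of a product of abelian sheaves are families of sections. -/
theorem bijective_sect_prod {ι : Type u} (G : ι → EtCoh.Ab X) {P : EtCoh.Ab X} (pr : ∀ i, P ⟶ G i)
    (hP : IsLimit (Fan.mk P pr)) (U : X.Etaleᵒᵖ) :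
    Function.Bijective (fun (s : ToType (P.obj.obj U)) (i : ι) => (pr i).hom.app U s) := by
  let E : EtCoh.Ab X ⥤ Type (u + 1) :=
    sheafToPresheaf X.smallEtaleTopology AddCommGrpCat.{u + 1} ⋙ (evaluation _ _).obj U ⋙
      forget AddCommGrpCat.{u + 1}
  have h := isLimitFanMkObjOfIsLimit E G pr hP
  refine ⟨fun a b hab => ?_, fun t => ?_⟩
  · have e := Fan.IsLimit.hom_ext h (↾fun _ : PUnit.{u + 2} => a) (↾fun _ => b) fun i => by
      ext
      exact congrFun hab i
    exact congrArg (fun k : PUnit.{u + 2} ⟶ E.obj P => k PUnit.unit) e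
  · let c : Fan (fun i => E.obj (G i)) := Fan.mk PUnit.{u + 2} fun i => ↾fun _ => t i
    refine ⟨h.lift c PUnit.unit, funext fun i => ?_⟩
    exact congrArg (fun k : PUnit.{u + 2} ⟶ E.obj (G i) => k PUnit.unit) (h.fac c ⟨i⟩)

variable {f : X ⟶ S}

/-- Pullback of sections along `m` is natural in the sheaf. -/
theorem map_res {U : X.Etale} {V : S.Etale} (m : U ⟶ (EtCoh.bc f).obj V) {G G' : EtCoh.Ab S} (φ : G ⟶ G')
    (s : ToType (G.obj.obj (op V))) :
    ((EtCoh.pull f).map φ).hom.app (op U) (CM.res m G s) = CM.res m G' (φ.hom.app (op V) s) := by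
  refine (NatTrans.naturality_apply ((EtCoh.pull f).map φ).hom m.op (BC.eta f G V s)).trans
    (congrArg (fun z => ((EtCoh.pull f).obj G').obj.map m.op z) ?_)
  have h := (EtCoh.pullPushAdj f).unit.naturality φ
  exact ((ConcreteCategory.comp_apply _ _ _).symm.trans
    (ConcreteCategory.congr_hom (congrArg (fun k => k.hom.app (op V)) h.symm) s)).trans
      (ConcreteCategory.comp_apply _ _ _)

/-- Inverse image along a morphism locally factoring through connected fibres commutes with products. -/
theorem isIso_piComparison (hgood : ∀ (U : X.Etale) (x : U.left), ∃ (U₁ : X.Etale) (p : U₁ ⟶ U) (x₁ : U₁.left)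
      (V : S.Etale) (m : U₁ ⟶ (EtCoh.bc f).obj V), p.left.base x₁ = x ∧ CBC.Good m)
    {ι : Type u} (G : ι → EtCoh.Ab S) : IsIso (piComparison (EtCoh.pull f) G) := by
  let θ := piComparison (EtCoh.pull f) G
  have hbij : ∀ {U : X.Etale} {V : S.Etale} (m : U ⟶ (EtCoh.bc f).obj V), CBC.Good m →
      Function.Bijective (θ.hom.app (op U)) := by
    intro U V m hm
    have hres : ∀ H : EtCoh.Ab S, Function.Bijective (CM.res m H) := fun H =>
      ⟨CM.injective_res m H hm.2,
        CM.surjective_res m H hm.2 (CBC.isQuotientMap_of_univSubmersive m hm)⟩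
    have hS := bijective_sect_prod G (fun i => Pi.π G i) (productIsProduct G) (op V)
    have hX := bijective_sect_prod (fun i => (EtCoh.pull f).obj (G i))
      (fun i => Pi.π (fun i => (EtCoh.pull f).obj (G i)) i) (productIsProduct _) (op U)
    have key : ∀ (s : ToType ((∏ᶜ G).obj.obj (op V))) (i : ι),
        (Pi.π (fun i => (EtCoh.pull f).obj (G i)) i).hom.app (op U) (θ.hom.app (op U) (CM.res m (∏ᶜ G) s)) =
          CM.res m (G i) ((Pi.π G i).hom.app (op V) s) := fun s i => by
      refine Eq.trans ?_ (map_res m (Pi.π G i) s)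
      exact (ConcreteCategory.comp_apply _ _ _).symm.trans (ConcreteCategory.congr_hom
        (congrArg (fun k => k.hom.app (op U)) (piComparison_comp_π (EtCoh.pull f) G i)) _)
    refine ⟨fun a b hab => ?_, fun t => ?_⟩
    · obtain ⟨a', rfl⟩ := (hres _).2 a
      obtain ⟨b', rfl⟩ := (hres _).2 b
      refine congrArg (CM.res m (∏ᶜ G)) (hS.1 (funext fun i => (hres (G i)).1 ?_))
      exact (key a' i).symm.trans ((congrArg _ hab).trans (key b' i))
    · choose s hs using fun i => (hres (G i)).2
        ((Pi.π (fun i => (EtCoh.pull f).obj (G i)) i).hom.app (op U) t)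
      obtain ⟨s', hs'⟩ := hS.2 s
      refine ⟨CM.res m (∏ᶜ G) s', hX.1 (funext fun i => ?_)⟩
      exact (key s' i).trans ((congrArg _ (congrFun hs' i)).trans (hs i))
  haveI : Sheaf.IsLocallyInjective θ := ⟨fun {U} a b hab => (mem_topology_iff _).2 fun x => by
    obtain ⟨U₁, p, x₁, V, m, hx, hm⟩ := hgood U.unop x
    refine ⟨U₁, p, x₁, (hbij m hm).1 ?_, hx⟩
    exact ((NatTrans.naturality_apply θ.hom p.op a).trans (congrArg _ hab)).trans
      (NatTrans.naturality_apply θ.hom p.op b).symm⟩
  haveI : Sheaf.IsLocallySurjective θ := ⟨fun {U} a => (mem_topology_iff _).2 fun x => by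
    obtain ⟨U₁, p, x₁, V, m, hx, hm⟩ := hgood U x
    exact ⟨U₁, p, x₁, (hbij m hm).2 _, hx⟩⟩
  haveI := Sheaf.mono_of_isLocallyInjective θ
  haveI := (Sheaf.isLocallySurjective_iff_epi' (φ := θ)).1 inferInstance
  exact isIso_of_mono_of_epi _

/-- Inverse image along a flat morphism locally of finite presentation with geometrically reduced fibres
commutes with products. -/
theorem preservesProducts_pull (f : X ⟶ S) [Flat f] [LocallyOfFinitePresentation f] [GeometricallyReduced f]
    (ι : Type u) : PreservesLimitsOfShape (Discrete ι) (EtCoh.pull f) := by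
  have hgood : ∀ (U : X.Etale) (x : U.left), ∃ (U₁ : X.Etale) (p : U₁ ⟶ U) (x₁ : U₁.left)
      (V : S.Etale) (m : U₁ ⟶ (EtCoh.bc f).obj V), p.left.base x₁ = x ∧ CBC.Good m := fun U x => by
    haveI : AlgebraicGeometry.Etale U.hom := U.prop
    haveI := geometricallyReduced_etale_comp U.hom f
    obtain ⟨X₁, V, e, q, a, x₁, he, hq, hx, hsq, hsub, hconn⟩ := exists_factor (U.hom ≫ f) x
    haveI := he
    haveI := hq
    let U₁ : X.Etale := Scheme.Etale.mk (e ≫ U.hom)
    let V₁ : S.Etale := Scheme.Etale.mk q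
    let m : U₁ ⟶ (EtCoh.bc f).obj V₁ := MorphismProperty.Over.homMk
      (pullback.lift a (e ≫ U.hom) (hsq.trans (Category.assoc _ _ _).symm)) (pullback.lift_snd _ _ _)
    have hb : CM.bot m = a := pullback.lift_fst _ _ _
    refine ⟨U₁, MorphismProperty.Over.homMk e rfl, x₁, V₁, m, hx, hb ▸ hsub, fun Ω _ _ η => ?_⟩
    haveI hc : ConnectedSpace ↥(pullback a η) := hconn Ω η
    exact connectedSpace_of_iso (pullback.congrHom hb (rfl : η = η)).symm hc
  constructor
  intro K
  haveI := isIso_piComparison hgood (fun i => K.obj ⟨i⟩)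
  haveI : PreservesLimit (Discrete.functor (K.obj ∘ Discrete.mk)) (EtCoh.pull f) :=
    PreservesProduct.of_iso_comparison (EtCoh.pull f) (fun i => K.obj ⟨i⟩)
  exact preservesLimit_of_iso_diagram _ (Discrete.natIsoFunctor (F := K)).symm

end Groth.L23.GeomRedProd
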